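import Cfsg.Agent.UFourThree.SevenTable
import Cfsg.Agent.Forms4.UnitaryCenter
import Cfsg.Prelude.Def_Classical

/-!
# The subgroups of order seven of the projective special unitary group of degree four over nine elements

Their centralisers are themselves and their normalisers have order 21.
-/

set_option autoImplicit false

namespace CfsgLib.UFourThree

open Matrix CfsgLib.UThree

variable {F : Type*} [Field F]

/-- The matrix of a code. -/
def mat4 (ι : F) (A : List (List ℕ)) : Matrix (Fin 4) (Fin 4) F :=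
  Matrix.of fun i j => val9 ι (get4 A i j)

theorem get4_tab4 (f : ℕ → ℕ → ℕ) {i j : ℕ} (hi : i < 4) (hj : j < 4) :
    get4 (tab4 f) i j = f i j := by
  simp [get4, tab4, List.getD, List.getElem?_range hi, List.getElem?_range hj]

variable [CharP F 3] {ι : F} (hι : ι ^ 2 = -1)
include hι

omit [CharP F 3] hι in
theorem mat4_diag (a b : ℕ) :
    mat4 ι (diag4 a b) = Matrix.diagonal ![val9 ι a, val9 ι a, val9 ι a, val9 ι b] := by
  ext i j
  fin_cases i <;> fin_cases j <;> simp [mat4, diag4, get4, val9_zero]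

omit [CharP F 3] hι in
theorem mat4_one : mat4 ι (diag4 1 1) = 1 := by
  rw [mat4_diag]
  ext i j
  fin_cases i <;> fin_cases j <;> simp [val9_one]

theorem mat4_mul (A B : List (List ℕ)) : mat4 ι (mul4 A B) = mat4 ι A * mat4 ι B := by
  ext i j
  simp [mat4, mul4, get4_tab4 _ i.2 j.2, Matrix.mul_apply, Fin.sum_univ_four, val9_addF,
    val9_mulF hι]
  ring

theorem mat4_pow (A : List (List ℕ)) : ∀ k, mat4 ι (pow4 A k) = mat4 ι A ^ k
  | 0 => by rw [pow4, mat4_one, pow_zero]
  | k + 1 => by rw [pow4, mat4_mul hι, mat4_pow A k, pow_succ]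

theorem mat4_comb (a b c d : ℕ) : mat4 ι (comb4 a b c d) =
    val9 ι a • mat4 ι gCode ^ 0 + val9 ι b • mat4 ι gCode ^ 1 + val9 ι c • mat4 ι gCode ^ 2 +
      val9 ι d • mat4 ι gCode ^ 3 := by
  simp only [← mat4_pow hι]
  ext i j
  simp [mat4, comb4, get4_tab4 _ i.2 j.2, val9_addF, val9_mulF hι]
  ring

theorem sigma_dot [Fintype F] (u v : Fin 4 → F) :
    Cfsg.hermForm 4 F 3 u v = u ⬝ᵥ fun i => frobenius F 3 (v i) := by
  simp [Cfsg.hermForm, dotProduct, frobenius_def]

theorem colHerm_eq (A : List (List ℕ)) (a b : Fin 4) :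
    val9 ι (colHerm A a b) = ∑ i, mat4 ι A i a * mat4 ι A i b ^ 3 := by
  simp [colHerm, mat4, Fin.sum_univ_four, val9_addF, val9_mulF hι, val9_conjF hι]
  ring

/-- A coded matrix with orthonormal columns preserves the form. -/
theorem preserves_of_colsOK [Fintype F] {A : List (List ℕ)} (hA : colsOK A = true) (u v : Fin 4 → F) :
    Cfsg.hermForm 4 F 3 (mat4 ι A *ᵥ u) (mat4 ι A *ᵥ v) = Cfsg.hermForm 4 F 3 u v := by
  haveI : ExpChar F 3 := ExpChar.prime (by norm_num)
  have hM : (mat4 ι A)ᵀ * (mat4 ι A).map (frobenius F 3) = 1 := by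
    ext a b
    have h := List.all_eq_true.1 (List.all_eq_true.1 hA a (List.mem_range.2 a.2)) b
      (List.mem_range.2 b.2)
    simp only [beq_iff_eq] at h
    simp only [Matrix.mul_apply, Matrix.transpose_apply, Matrix.map_apply, frobenius_def]
    rw [← colHerm_eq hι, h, Matrix.one_apply]
    by_cases hab : a = b
    · rw [if_pos (congrArg Fin.val hab), if_pos hab, val9_one]
    · rw [if_neg (fun e => hab (Fin.ext e)), if_neg hab, val9_zero]
  rw [sigma_dot hι, sigma_dot hι]
  have h2 : (fun i => frobenius F 3 ((mat4 ι A *ᵥ v) i))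
      = (mat4 ι A).map (frobenius F 3) *ᵥ fun i => frobenius F 3 (v i) := by
    funext i
    exact RingHom.map_mulVec (frobenius F 3) (mat4 ι A) v i
  rw [h2, Matrix.dotProduct_mulVec, ← Matrix.mulVec_transpose, Matrix.mulVec_mulVec]
  have h3 : ((mat4 ι A).map (frobenius F 3))ᵀ * mat4 ι A = 1 := by
    have h4 := congrArg Matrix.transpose hM
    rwa [Matrix.transpose_mul, Matrix.transpose_transpose, Matrix.transpose_one] at h4
  rw [h3, Matrix.one_mulVec]

variable [Fintype F] (hF : Fintype.card F = 9)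
include hF

/-- A coded unitary matrix of finite order prime to eight is in the special unitary group. -/
theorem exists_elt {A : List (List ℕ)} {n : ℕ} (hn : Nat.Coprime n 8) (hA : colsOK A = true)
    (hp : pow4 A n = diag4 1 1) :
    ∃ g : Cfsg.SU 4 F 3, ((g : Matrix.SpecialLinearGroup (Fin 4) F) : Matrix (Fin 4) (Fin 4) F) = mat4 ι A := by
  have hpow : mat4 ι A ^ n = 1 := by rw [← mat4_pow hι, hp, mat4_one]
  have h1 : (mat4 ι A).det ^ n = 1 := by rw [← Matrix.det_pow, hpow, Matrix.det_one]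
  have hdet : (mat4 ι A).det = 1 := by
    have h0 : (mat4 ι A).det ≠ 0 := by
      intro h
      rcases Nat.eq_zero_or_pos n with rfl | hn0
      · simp at hn
      · rw [h, zero_pow hn0.ne'] at h1; exact zero_ne_one h1
    have h8 : (mat4 ι A).det ^ 8 = 1 := by
      have := FiniteField.pow_card_sub_one_eq_one _ h0
      rwa [hF] at this
    have := pow_gcd_eq_one.2 ⟨h1, h8⟩
    rwa [hn.gcd_eq_one, pow_one] at this
  exact ⟨⟨⟨mat4 ι A, hdet⟩, fun u v => preserves_of_colsOK hι hA u v⟩, rfl⟩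

/-- The matrices of the special unitary group commuting with the element of order seven. -/
theorem commutant (M : Cfsg.SU 4 F 3)
    (hM : ((M : Matrix.SpecialLinearGroup (Fin 4) F) : Matrix (Fin 4) (Fin 4) F) * mat4 ι gCode
      = mat4 ι gCode * ((M : Matrix.SpecialLinearGroup (Fin 4) F) : Matrix (Fin 4) (Fin 4) F)) :
    ∃ k : ℕ, ∃ μ : F, ((M : Matrix.SpecialLinearGroup (Fin 4) F) : Matrix (Fin 4) (Fin 4) F)
      = mat4 ι gCode ^ k * (μ • (1 : Matrix (Fin 4) (Fin 4) F)) := by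
  haveI : ExpChar F 3 := ExpChar.prime (by norm_num)
  set H := ((M : Matrix.SpecialLinearGroup (Fin 4) F) : Matrix (Fin 4) (Fin 4) F) with hH
  set G := mat4 ι gCode with hG
  set V := mat4 ι vCode
  set B := mat4 ι bCode
  set c := mat4 ι biCode *ᵥ fun i => (H * V) i 0 with hc
  have hfb := facts_basis
  simp only [Bool.and_eq_true, beq_iff_eq, List.all_eq_true, List.mem_range] at hfb
  have hBB : B * mat4 ι biCode = 1 := by rw [← mat4_mul hι, hfb.1, mat4_one]
  have hBj : ∀ i j : Fin 4, (G ^ (j : ℕ) * V) i 0 = B i j := by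
    intro i j
    rw [hG, ← mat4_pow hι, ← mat4_mul hι]
    exact congrArg (val9 ι) (hfb.2 j j.2 i i.2)
  obtain ⟨x, -, hx⟩ := val9_surjective hι hF (c 0)
  obtain ⟨y, hy, hy'⟩ := val9_surjective hι hF (c 1)
  obtain ⟨z, hz, hz'⟩ := val9_surjective hι hF (c 2)
  obtain ⟨w, hw, hw'⟩ := val9_surjective hι hF (c 3)
  obtain ⟨x, hx0, hx⟩ := val9_surjective hι hF (c 0)
  set P := mat4 ι (comb4 x y z w) with hP
  have hPe : P = c 0 • G ^ 0 + c 1 • G ^ 1 + c 2 • G ^ 2 + c 3 • G ^ 3 := by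
    rw [hP, mat4_comb hι, hx, hy', hz', hw']
  have hPc : ∀ j : ℕ, Commute P (G ^ j) := by
    intro j
    rw [hPe]
    have : ∀ (a : F) (k : ℕ), Commute (a • G ^ k) (G ^ j) := fun a k =>
      ((Commute.refl G).pow_pow k j).smul_left a
    exact (((this _ _).add_left (this _ _)).add_left (this _ _)).add_left (this _ _)
  have hPV : ∀ i, (P * V) i 0 = (H * V) i 0 := by
    intro i
    have h1 : (P * V) i 0 = (B *ᵥ c) i := by
      rw [hPe]
      simp only [Matrix.add_mul, Matrix.smul_mul, Matrix.add_apply, Matrix.smul_apply, smul_eq_mul]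
      have e0 : (G ^ 0 * V) i 0 = B i 0 := hBj i 0
      have e1 : (G ^ 1 * V) i 0 = B i 1 := hBj i 1
      have e2 : (G ^ 2 * V) i 0 = B i 2 := hBj i 2
      have e3 : (G ^ 3 * V) i 0 = B i 3 := hBj i 3
      rw [e0, e1, e2, e3, Matrix.mulVec, dotProduct, Fin.sum_univ_four]
      ring
    rw [h1, hc, Matrix.mulVec_mulVec, hBB, Matrix.one_mulVec]
  have hHP : H = P := by
    have h1 : H * B = P * B := by
      ext i j
      have e : ∀ X : Matrix (Fin 4) (Fin 4) F, Commute X (G ^ (j : ℕ)) →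
          (X * B) i j = ∑ k, (G ^ (j : ℕ)) i k * (X * V) k 0 := by
        intro X hX
        have : (X * B) i j = ((X * G ^ (j : ℕ)) * V) i 0 := by
          rw [Matrix.mul_assoc]
          rw [Matrix.mul_apply, Matrix.mul_apply]
          exact Finset.sum_congr rfl fun k _ => by rw [hBj]
        rw [this, hX.eq, Matrix.mul_assoc, Matrix.mul_apply]
      rw [e H (Commute.pow_right hM _), e P (hPc _)]
      simp [hPV]
    have := congrArg (· * mat4 ι biCode) h1
    simpa only [Matrix.mul_assoc, hBB, Matrix.mul_one] using this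
  have hok : colsOK (comb4 x y z w) = true := by
    simp only [colsOK, List.all_eq_true, List.mem_range, beq_iff_eq]
    intro a ha b hb
    refine val9_injOn hι (addF_lt _ _) (by split <;> norm_num) ?_
    have h1 := M.2 (Pi.single (⟨a, ha⟩ : Fin 4) 1) (Pi.single (⟨b, hb⟩ : Fin 4) 1)
    change Cfsg.hermForm 4 F 3 (H *ᵥ _) (H *ᵥ _) = _ at h1
    rw [show colHerm (comb4 x y z w) a b
        = colHerm (comb4 x y z w) ((⟨a, ha⟩ : Fin 4) : ℕ) ((⟨b, hb⟩ : Fin 4) : ℕ) from rfl,
      colHerm_eq hι, ← hP, ← hHP]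
    simp only [Cfsg.hermForm, Matrix.mulVec_single, MulOpposite.op_one, one_smul, Matrix.col_apply] at h1
    rw [h1]
    by_cases hab : a = b
    · subst hab; simp [Pi.single_apply, val9_one]
    · simp [Pi.single_apply, hab, Ne.symm hab, val9_zero]
  have htab := List.all_eq_true.1 (List.all_eq_true.1 (List.all_eq_true.1 (List.all_eq_true.1
    comb4_unitary x (List.mem_range.2 hx0)) y (List.mem_range.2 hy)) z (List.mem_range.2 hz)) w
    (List.mem_range.2 hw)
  simp only [hok, Bool.not_true, Bool.false_or, List.any_eq_true, List.mem_range, beq_iff_eq] at htab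
  obtain ⟨k, -, m, hm, l, hl, he⟩ := htab
  refine ⟨k, val9 ι m, ?_⟩
  have hHe : H = G ^ k * Matrix.diagonal ![val9 ι m, val9 ι m, val9 ι m, val9 ι l] := by
    rw [hHP, hP, he, mat4_mul hι, mat4_pow hι, mat4_diag]
  have hdet : val9 ι (mulF (mulF (mulF m m) m) l) = val9 ι 1 := by
    have hgdet : G.det = 1 := by
      have hfg := facts_g
      simp only [Bool.and_eq_true, beq_iff_eq] at hfg
      obtain ⟨g, hg⟩ := exists_elt (n := 7) hι hF (by norm_num) hfg.1.1.1.1.1 hfg.1.1.1.1.2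
      rw [hG, ← hg]; exact (g : Matrix.SpecialLinearGroup (Fin 4) F).2
    have h1 : H.det = 1 := (M : Matrix.SpecialLinearGroup (Fin 4) F).2
    rw [hHe, Matrix.det_mul, Matrix.det_pow, hgdet, one_pow, one_mul, Matrix.det_diagonal,
      Fin.prod_univ_four] at h1
    simpa [val9_mulF hι, val9_one] using h1
  have hml : m = l := by
    have := val9_injOn hι (mulF_lt _ _) (by norm_num) hdet
    revert this
    revert hm hl
    have key : ∀ m ∈ [1, 2, 3, 6], ∀ l ∈ [1, 2, 3, 6], mulF (mulF (mulF m m) m) l = 1 → m = l := by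
      decide
    exact fun hm hl h => key m hm l hl h
  rw [hHe, ← hml]
  congr 1
  ext i j
  fin_cases i <;> fin_cases j <;> simp

/-- The order. -/
theorem card_eq : Nat.card (Cfsg.PSU 4 F 3) = 3265920 := by
  have h9 : Fintype.card F = 3 ^ 2 := by rw [hF]; norm_num
  have h := (Subgroup.center (Cfsg.SU 4 F 3)).card_eq_card_quotient_mul_card_subgroup
  rw [CfsgLib.Forms4.card_center_SU h9 (by norm_num)] at h
  have h2 := CfsgLib.Forms4.card_SU_mul_GU (n := 4) h9 (by norm_num)
  rw [CfsgLib.Forms.card_GU h9 4, h] at h2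
  simp [Finset.sum_range_succ, Finset.prod_range_succ, CfsgLib.Forms.u_succ, Nat.even_add_one] at h2
  change (3 + 1) * (Nat.card (Cfsg.PSU 4 F 3) * _) = _ at h2
  omega

/-- The normaliser of a subgroup of order seven has order 21 and its centraliser is itself. -/
theorem normalizer_seven (X : Subgroup (Cfsg.PSU 4 F 3)) (hX : Nat.card X = 7) :
    Nat.card ↥(Subgroup.normalizer (X : Set (Cfsg.PSU 4 F 3))) = 21 ∧
      Subgroup.centralizer (X : Set (Cfsg.PSU 4 F 3)) = X := by
  classical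
  haveI : Fact (Nat.Prime 7) := ⟨by norm_num⟩
  have hfg := facts_g
  simp only [Bool.and_eq_true, beq_iff_eq, Bool.not_eq_true', beq_eq_false_iff_ne] at hfg
  obtain ⟨⟨⟨⟨⟨hgo, hg7⟩, hg1⟩, hho⟩, hh3⟩, hhg⟩ := hfg
  obtain ⟨g, hg⟩ := exists_elt (n := 7) hι hF (by norm_num) hgo hg7
  obtain ⟨h, hh⟩ := exists_elt (n := 3) hι hF (by norm_num) hho hh3
  let toM : Cfsg.SU 4 F 3 →* Matrix (Fin 4) (Fin 4) F :=
    (Cfsg.slToMat 4 F).comp (Cfsg.SU 4 F 3).subtype
  have toM_inj : Function.Injective toM := fun a b e =>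
    Subtype.ext (Subtype.ext e)
  have hgM : toM g = mat4 ι gCode := hg
  have hhM : toM h = mat4 ι hCode := hh
  have g7 : g ^ 7 = 1 := toM_inj (by rw [map_pow, hgM, ← mat4_pow hι, hg7, mat4_one, map_one])
  have h3 : h ^ 3 = 1 := toM_inj (by rw [map_pow, hhM, ← mat4_pow hι, hh3, mat4_one, map_one])
  have hrel : h * g = g ^ 2 * h := toM_inj (by
    rw [map_mul, map_mul, map_pow, hgM, hhM, ← mat4_pow hι, ← mat4_mul hι, ← mat4_mul hι, hhg])
  have hz4 : ∀ z ∈ Subgroup.center (Cfsg.SU 4 F 3), z ^ 4 = 1 := by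
    intro z hz
    have hc := CfsgLib.Forms4.card_center_SU (n := 4) (q := 3) (F := F) (by rw [hF]; norm_num)
      (by norm_num)
    have := pow_card_eq_one' (x := (⟨z, hz⟩ : Subgroup.center (Cfsg.SU 4 F 3)))
    rw [hc] at this
    exact congrArg Subtype.val this
  let q := QuotientGroup.mk' (Subgroup.center (Cfsg.SU 4 F 3))
  have lift : ∀ (a : Cfsg.SU 4 F 3) (i : ℕ), q a * q g * (q a)⁻¹ = q g ^ i → a * g = g ^ i * a := by
    intro a i e
    rw [← map_inv, ← map_mul, ← map_mul, ← map_pow] at e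
    set z := (g ^ i)⁻¹ * (a * g * a⁻¹) with hz
    have hzc : z ∈ Subgroup.center (Cfsg.SU 4 F 3) := QuotientGroup.eq.1 e.symm
    have e2 : a * g * a⁻¹ = g ^ i * z := by rw [hz]; group
    have h7 : z ^ 7 = 1 := by
      have h1 : (a * g * a⁻¹) ^ 7 = 1 := by rw [conj_pow, g7, mul_one, mul_inv_cancel]
      rw [e2, Commute.mul_pow (Subgroup.mem_center_iff.1 hzc (g ^ i)), ← pow_mul, mul_comm i, pow_mul, g7,
        one_pow, one_mul] at h1
      exact h1
    have hz1 : z = 1 := by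
      have := pow_gcd_eq_one.2 ⟨h7, hz4 z hzc⟩
      simpa using this
    rw [hz1, mul_one] at e2
    exact mul_inv_eq_iff_eq_mul.1 e2
  have hord : orderOf (q g) = 7 := by
    refine orderOf_eq_prime (by rw [← map_pow, g7, map_one]) fun h1 => ?_
    have hgc : g ∈ Subgroup.center (Cfsg.SU 4 F 3) := (QuotientGroup.eq_one_iff g).1 h1
    have h2 := pow_gcd_eq_one.2 ⟨g7, hz4 g hgc⟩
    simp only [show Nat.gcd 7 4 = 1 from rfl, pow_one] at h2
    have h3' : mat4 ι gCode = mat4 ι (diag4 1 1) := by rw [← hgM, h2, map_one, mat4_one]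
    have h00 := congrFun (congrFun h3' 0) 0
    simp [mat4, gCode, diag4, get4, val9_zero, val9_one] at h00
  set X₀ := Subgroup.zpowers (q g) with hX₀
  have hX₀c : Nat.card X₀ = 7 := by rw [hX₀, Nat.card_zpowers, hord]
  have hcard := card_eq hι hF
  have hfac : (Nat.card (Cfsg.PSU 4 F 3)).factorization 7 = 1 := by
    have hne : Nat.card (Cfsg.PSU 4 F 3) ≠ 0 := Nat.card_pos.ne'
    have h7 := (Nat.Prime.pow_dvd_iff_le_factorization (k := 1) (by norm_num : Nat.Prime 7) hne).1
      (by rw [hcard]; norm_num)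
    have h49 : ¬ 2 ≤ (Nat.card (Cfsg.PSU 4 F 3)).factorization 7 := fun h2 => by
      have := (Nat.Prime.pow_dvd_iff_le_factorization (k := 2) (by norm_num : Nat.Prime 7) hne).2 h2
      rw [hcard] at this
      norm_num at this
    omega
  obtain ⟨t, ht⟩ := MulAction.exists_smul_eq (Cfsg.PSU 4 F 3)
    (Sylow.ofCard X₀ (by rw [hX₀c, hfac, pow_one])) (Sylow.ofCard X (by rw [hX, hfac, pow_one]))
  have hXt : X = X₀.map (MulAut.conj t).toMonoidHom := by
    have := congrArg Sylow.toSubgroup ht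
    exact this.symm
  -- centralising the base element
  have hcent : ∀ x, Commute x (q g) → x ∈ X₀ := by
    intro x hx
    obtain ⟨a, rfl⟩ := QuotientGroup.mk'_surjective _ x
    have e := lift a 1 (by rw [pow_one]; exact mul_inv_eq_iff_eq_mul.2 hx.eq)
    rw [pow_one] at e
    have e2 := congrArg toM e
    rw [map_mul, map_mul, hgM] at e2
    obtain ⟨k, μ, hk⟩ := commutant hι hF a e2
    have hzc : (g ^ k)⁻¹ * a ∈ Subgroup.center (Cfsg.SU 4 F 3) := by
      have e3 : toM ((g ^ k)⁻¹ * a) = μ • 1 := by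
        have h1 : toM a = toM (g ^ k) * (μ • 1) := by rw [map_pow, hgM]; exact hk
        rw [map_mul, h1, ← Matrix.mul_assoc, ← map_mul, inv_mul_cancel, map_one, Matrix.one_mul]
      rw [Subgroup.mem_center_iff]
      intro b
      refine toM_inj ?_
      rw [map_mul toM b, map_mul toM _ b, e3, Matrix.mul_smul, Matrix.smul_mul, Matrix.mul_one,
        Matrix.one_mul]
    have : q a = q g ^ k := by
      rw [← map_pow]
      exact (QuotientGroup.eq.2 hzc).symm
    rw [show QuotientGroup.mk' (Subgroup.center (Cfsg.SU 4 F 3)) a = q a from rfl, this]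
    exact pow_mem (Subgroup.mem_zpowers _) k
  have hC0 : Subgroup.centralizer (X₀ : Set (Cfsg.PSU 4 F 3)) = X₀ := by
    refine le_antisymm (fun x hx => hcent x ?_) ?_
    · exact (Subgroup.mem_centralizer_iff.1 hx _ (Subgroup.mem_zpowers _)).symm
    · intro x hx
      rw [Subgroup.mem_centralizer_iff]
      rintro y ⟨i, rfl⟩
      obtain ⟨j, rfl⟩ := hx
      exact ((Commute.refl (q g)).zpow_zpow i j).eq
  -- normalising it
  have hqrel : q h * q g * (q h)⁻¹ = q g ^ 2 := by
    rw [← map_mul, hrel, map_mul, map_pow, mul_inv_cancel_right]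
  have hqpow : ∀ j : ℕ, q h ^ j * q g * (q h ^ j)⁻¹ = q g ^ (2 ^ j) := by
    intro j
    induction j with
    | zero => simp
    | succ j ih =>
      calc q h ^ (j + 1) * q g * (q h ^ (j + 1))⁻¹
          = q h * (q h ^ j * q g * (q h ^ j)⁻¹) * (q h)⁻¹ := by
            rw [pow_succ', _root_.mul_inv_rev]; group
        _ = (q h * q g * (q h)⁻¹) ^ (2 ^ j) := by rw [ih, conj_pow]
        _ = q g ^ (2 ^ (j + 1)) := by rw [hqrel, ← pow_mul, pow_succ']
  set N₀ := Subgroup.normalizer (X₀ : Set (Cfsg.PSU 4 F 3)) with hN₀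
  have hN : ∀ x, x ∈ N₀ → ∃ a : Fin 7, ∃ b : Fin 3, q g ^ (a : ℕ) * q h ^ (b : ℕ) = x := by
    intro x hx
    have h1 : x * q g * x⁻¹ ∈ X₀ := (Subgroup.mem_normalizer_iff.1 hx _).1 (Subgroup.mem_zpowers _)
    obtain ⟨i, hi⟩ : ∃ i : ℕ, q g ^ i = x * q g * x⁻¹ := by
      rw [hX₀] at h1
      exact (mem_powers_iff_mem_zpowers.2 h1)
    obtain ⟨i, hi7, hi⟩ : ∃ i < 7, q g ^ i = x * q g * x⁻¹ :=
      ⟨i % 7, Nat.mod_lt _ (by norm_num), by rw [← hi, ← hord, pow_mod_orderOf]⟩
    have hi0 : i ≠ 0 := by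
      rintro rfl
      rw [pow_zero, eq_comm, conj_eq_one_iff] at hi
      rw [hi, orderOf_one] at hord
      norm_num at hord
    have hbad : i ≠ 3 ∧ i ≠ 5 ∧ i ≠ 6 := by
      obtain ⟨a, rfl⟩ := QuotientGroup.mk'_surjective _ x
      have e := lift a i hi.symm
      have htr : (mat4 ι gCode ^ i).trace = (mat4 ι gCode).trace := by
        have e1 : toM (g ^ i) = toM a * toM g * toM a⁻¹ := by
          rw [← map_mul, ← map_mul, e, mul_inv_cancel_right]
        rw [← hgM, ← map_pow, e1, Matrix.trace_mul_comm (toM a * toM g), ← Matrix.mul_assoc,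
          ← map_mul, inv_mul_cancel, map_one, Matrix.one_mul]
      rw [← mat4_pow hι] at htr
      have key : ∀ k ∈ [3, 5, 6], i ≠ k := by
        rintro k hk rfl
        have h1 := List.all_eq_true.1 facts_trace i hk
        simp only [Bool.not_eq_true', beq_eq_false_iff_ne] at h1
        refine h1 (val9_injOn hι (addF_lt _ _) (addF_lt _ _) ?_)
        simpa [tr4, Matrix.trace, Fin.sum_univ_four, mat4, val9_addF, add_assoc] using htr
      exact ⟨key 3 (by simp), key 5 (by simp), key 6 (by simp)⟩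
    obtain ⟨b, hb⟩ : ∃ b : Fin 3, 2 ^ (b : ℕ) = i := by
      obtain rfl | rfl | rfl : i = 1 ∨ i = 2 ∨ i = 4 := by omega
      exacts [⟨0, rfl⟩, ⟨1, rfl⟩, ⟨2, rfl⟩]
    have h2 : Commute ((q h ^ (b : ℕ))⁻¹ * x) (q g) := by
      have := hqpow b
      rw [hb, hi] at this
      show _ = _
      calc (q h ^ (b : ℕ))⁻¹ * x * q g = (q h ^ (b : ℕ))⁻¹ * (x * q g * x⁻¹) * x := by group
        _ = q g * ((q h ^ (b : ℕ))⁻¹ * x) := by rw [← this]; group
    have h3 : x * (q h ^ (b : ℕ))⁻¹ ∈ X₀ := by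
      have h4 := hcent _ h2
      have h5 : q h ^ (b : ℕ) * ((q h ^ (b : ℕ))⁻¹ * x) * (q h ^ (b : ℕ))⁻¹ ∈ X₀ := by
        obtain ⟨j, hj⟩ := h4
        rw [← hj, ← conj_zpow, hqpow]
        exact zpow_mem (pow_mem (Subgroup.mem_zpowers _) _) j
      rwa [mul_inv_cancel_left] at h5
    rw [hX₀] at h3
    obtain ⟨a, ha⟩ := mem_powers_iff_mem_zpowers.2 h3
    refine ⟨⟨a % 7, Nat.mod_lt _ (by norm_num)⟩, b, ?_⟩
    change q g ^ (a % 7) * _ = _
    rw [← hord, pow_mod_orderOf]
    simp only at ha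
    rw [ha, inv_mul_cancel_right]
  have hmemN : ∀ (a : Fin 7) (b : Fin 3), q g ^ (a : ℕ) * q h ^ (b : ℕ) ∈ N₀ := by
    intro a b
    refine mul_mem ?_ (pow_mem ?_ _)
    · exact Subgroup.le_normalizer (pow_mem (Subgroup.mem_zpowers _) _)
    · rw [hN₀, Subgroup.mem_normalizer_iff_map_conj_eq, hX₀, MonoidHom.map_zpowers]
      change Subgroup.zpowers (q h * q g * (q h)⁻¹) = _
      rw [hqrel]
      refine le_antisymm (Subgroup.zpowers_le.2 (pow_mem (Subgroup.mem_zpowers _) _))
        (Subgroup.zpowers_le.2 ?_)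
      have : (q g ^ 2) ^ 4 = q g := by
        rw [← pow_mul, pow_succ, ← hord, pow_orderOf_eq_one, one_mul]
      have h4 : (q g ^ 2) ^ 4 ∈ Subgroup.zpowers (q g ^ 2) := Subgroup.npow_mem_zpowers _ _
      rwa [this] at h4
  have hinj : ∀ (a a' : Fin 7) (b b' : Fin 3),
      q g ^ (a : ℕ) * q h ^ (b : ℕ) = q g ^ (a' : ℕ) * q h ^ (b' : ℕ) → a = a' ∧ b = b' := by
    intro a a' b b' e
    have hc : ∀ (a : Fin 7) (b : Fin 3), q g ^ (a : ℕ) * q h ^ (b : ℕ) * q g *
        (q g ^ (a : ℕ) * q h ^ (b : ℕ))⁻¹ = q g ^ (2 ^ (b : ℕ)) := by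
      intro a b
      rw [show q g ^ (a : ℕ) * q h ^ (b : ℕ) * q g * (q g ^ (a : ℕ) * q h ^ (b : ℕ))⁻¹
          = q g ^ (a : ℕ) * (q h ^ (b : ℕ) * q g * (q h ^ (b : ℕ))⁻¹) * (q g ^ (a : ℕ))⁻¹ by
        rw [_root_.mul_inv_rev]; group, hqpow, ← pow_add, add_comm, pow_add, mul_inv_cancel_right]
    have h1 := (hc a b).symm.trans ((congrArg (fun x => x * q g * x⁻¹) e).trans (hc a' b'))
    have h2 : (2 ^ (b : ℕ)) % 7 = (2 ^ (b' : ℕ)) % 7 := by
      rw [pow_eq_pow_iff_modEq, hord] at h1; exact h1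
    have key : ∀ b b' : Fin 3, 2 ^ (b : ℕ) % 7 = 2 ^ (b' : ℕ) % 7 → b = b' := by decide
    have hb : b = b' := key b b' h2
    subst hb
    have h3 := mul_right_cancel e
    rw [pow_eq_pow_iff_modEq, hord, Nat.ModEq, Nat.mod_eq_of_lt a.2, Nat.mod_eq_of_lt a'.2] at h3
    exact ⟨Fin.ext h3, rfl⟩
  have hN0card : Nat.card N₀ = 21 := by
    let f : Fin 7 × Fin 3 → N₀ := fun p => ⟨q g ^ (p.1 : ℕ) * q h ^ (p.2 : ℕ), hmemN p.1 p.2⟩
    have hf : Function.Bijective f := by
      refine ⟨fun p p' e => ?_, fun x => ?_⟩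
      · have := hinj _ _ _ _ (congrArg Subtype.val e)
        exact Prod.ext this.1 this.2
      · obtain ⟨a, b, hab⟩ := hN x x.2
        exact ⟨(a, b), Subtype.ext hab⟩
    rw [← Nat.card_congr (Equiv.ofBijective f hf)]
    simp
  rw [hXt]
  constructor
  · rw [← Subgroup.map_equiv_normalizer_eq X₀ (MulAut.conj t), ← hN0card]
    exact Nat.card_congr (Subgroup.equivMapOfInjective _ _ (MulAut.conj t).injective).toEquiv.symm
  · ext x
    rw [Subgroup.mem_map_equiv]
    nth_rewrite 2 [← hC0]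
    simp only [Subgroup.mem_centralizer_iff, SetLike.mem_coe]
    constructor
    · intro hx y hy
      have h1 := hx (MulAut.conj t y) (Subgroup.mem_map_equiv.2 (by rwa [MulEquiv.symm_apply_apply]))
      have h2 := congrArg (MulAut.conj t).symm h1
      rwa [map_mul, map_mul, MulEquiv.symm_apply_apply] at h2
    · intro hx y hy
      have h2 := congrArg (MulAut.conj t) (hx _ (Subgroup.mem_map_equiv.1 hy))
      rwa [map_mul, map_mul, MulEquiv.apply_symm_apply, MulEquiv.apply_symm_apply] at h2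

end CfsgLib.UFourThree
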