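import Cfsg.Agent.UFourThree.SevenTable

/-!
# An element of order five of the unitary group of degree four over nine elements, on codes

The element and the list of the unitary polynomials of determinant one in it.
-/

set_option autoImplicit false

namespace CfsgLib.UFourThree

open CfsgLib.UThree

/-- The element of order five. -/
def gFive : List (List ℕ) := [[5, 3, 2, 0], [1, 5, 0, 2], [1, 0, 8, 1], [0, 1, 6, 8]]

/-- A cyclic vector, as a first column. -/
def vFive : List (List ℕ) := [[0, 0, 0, 0], [0, 0, 0, 0], [0, 0, 0, 0], [1, 0, 0, 0]]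

/-- The images of the cyclic vector. -/
def bFive : List (List ℕ) := [[0, 0, 8, 4], [0, 2, 2, 1], [0, 1, 4, 4], [1, 8, 5, 8]]

/-- The inverse of `bFive`. -/
def biFive : List (List ℕ) := [[3, 1, 5, 1], [5, 2, 0, 0], [8, 7, 7, 0], [1, 7, 7, 0]]

/-- A polynomial in `gFive`. -/
def combFive (a b c d : ℕ) : List (List ℕ) := tab4 fun i j =>
  addF (addF (mulF a (get4 (pow4 gFive 0) i j)) (mulF b (get4 (pow4 gFive 1) i j)))
    (addF (mulF c (get4 (pow4 gFive 2) i j)) (mulF d (get4 (pow4 gFive 3) i j)))

/-- Determinant of three columns `p q r` in the last three rows. -/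
def minorFive (A : List (List ℕ)) (p q r : ℕ) : ℕ :=
  let a := get4 A
  addF
    (addF (addF (mulF (mulF (a 1 p) (a 2 q)) (a 3 r)) (negF (mulF (mulF (a 1 p) (a 2 r)) (a 3 q))))
      (addF (negF (mulF (mulF (a 1 q) (a 2 p)) (a 3 r))) (mulF (mulF (a 1 q) (a 2 r)) (a 3 p))))
    (addF (mulF (mulF (a 1 r) (a 2 p)) (a 3 q)) (negF (mulF (mulF (a 1 r) (a 2 q)) (a 3 p))))

/-- Determinant. -/
def detFive (A : List (List ℕ)) : ℕ :=
  addF (addF (mulF (get4 A 0 0) (minorFive A 1 2 3)) (negF (mulF (get4 A 0 1) (minorFive A 0 2 3))))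
    (addF (mulF (get4 A 0 2) (minorFive A 0 1 3)) (negF (mulF (get4 A 0 3) (minorFive A 0 1 2))))

set_option maxRecDepth 100000 in
theorem combFive_unitary : ((List.range 9).all fun a => (List.range 9).all fun b =>
    (List.range 9).all fun c => (List.range 9).all fun d =>
      let A := combFive a b c d
      !colsOK A || !(detFive A == 1) || (List.range 5).any fun k => [1, 2, 3, 6].any fun m =>
        A == mul4 (pow4 gFive k) (diag4 m m)) = true := by
  decide +kernel

theorem facts_five : (colsOK gFive && pow4 gFive 5 == diag4 1 1 && mul4 bFive biFive == diag4 1 1 &&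
    (List.range 4).all fun j => (List.range 4).all fun i =>
      get4 (mul4 (pow4 gFive j) vFive) i 0 == get4 bFive i j) = true := by
  decide +kernel

end CfsgLib.UFourThree
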