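import Cfsg.Agent.UFourThree.Seven
import Cfsg.Agent.UFourThree.FiveTable

/-!
# The subgroups of order five of the projective special unitary group of degree four over nine elements

Their centralisers are themselves.
-/

set_option autoImplicit false

namespace CfsgLib.UFourThree

open Matrix CfsgLib.UThree

variable {F : Type*} [Field F] [CharP F 3] {ι : F} (hι : ι ^ 2 = -1)
include hι

theorem mat4_combFive (a b c d : ℕ) : mat4 ι (combFive a b c d) =
    val9 ι a • mat4 ι gFive ^ 0 + val9 ι b • mat4 ι gFive ^ 1 + val9 ι c • mat4 ι gFive ^ 2 +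
      val9 ι d • mat4 ι gFive ^ 3 := by
  simp only [← mat4_pow hι]
  ext i j
  simp [mat4, combFive, get4_tab4 _ i.2 j.2, val9_addF, val9_mulF hι]
  ring

theorem val9_detFive (A : List (List ℕ)) : val9 ι (detFive A) = (mat4 ι A).det := by
  rw [Matrix.det_succ_row_zero]
  simp [Fin.sum_univ_four, Matrix.det_fin_three, detFive, minorFive, mat4, val9_addF, val9_mulF hι,
    val9_negF hι, Fin.succAbove]
  ring

variable [Fintype F] (hF : Fintype.card F = 9)
include hF

/-- The matrices of the special unitary group commuting with the element of order five. -/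
theorem commutant_five (M : Cfsg.SU 4 F 3)
    (hM : ((M : Matrix.SpecialLinearGroup (Fin 4) F) : Matrix (Fin 4) (Fin 4) F) * mat4 ι gFive
      = mat4 ι gFive * ((M : Matrix.SpecialLinearGroup (Fin 4) F) : Matrix (Fin 4) (Fin 4) F)) :
    ∃ k : ℕ, ∃ μ : F, ((M : Matrix.SpecialLinearGroup (Fin 4) F) : Matrix (Fin 4) (Fin 4) F)
      = mat4 ι gFive ^ k * (μ • (1 : Matrix (Fin 4) (Fin 4) F)) := by
  haveI : ExpChar F 3 := ExpChar.prime (by norm_num)
  set H := ((M : Matrix.SpecialLinearGroup (Fin 4) F) : Matrix (Fin 4) (Fin 4) F) with hH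
  set G := mat4 ι gFive with hG
  set V := mat4 ι vFive
  set B := mat4 ι bFive
  set c := mat4 ι biFive *ᵥ fun i => (H * V) i 0 with hc
  have hfb := facts_five
  simp only [Bool.and_eq_true, beq_iff_eq, List.all_eq_true, List.mem_range] at hfb
  replace hfb := And.intro hfb.1.2 hfb.2
  have hBB : B * mat4 ι biFive = 1 := by rw [← mat4_mul hι, hfb.1, mat4_one]
  have hBj : ∀ i j : Fin 4, (G ^ (j : ℕ) * V) i 0 = B i j := by
    intro i j
    rw [hG, ← mat4_pow hι, ← mat4_mul hι]
    exact congrArg (val9 ι) (hfb.2 j j.2 i i.2)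
  obtain ⟨x, -, hx⟩ := val9_surjective hι hF (c 0)
  obtain ⟨y, hy, hy'⟩ := val9_surjective hι hF (c 1)
  obtain ⟨z, hz, hz'⟩ := val9_surjective hι hF (c 2)
  obtain ⟨w, hw, hw'⟩ := val9_surjective hι hF (c 3)
  obtain ⟨x, hx0, hx⟩ := val9_surjective hι hF (c 0)
  set P := mat4 ι (combFive x y z w) with hP
  have hPe : P = c 0 • G ^ 0 + c 1 • G ^ 1 + c 2 • G ^ 2 + c 3 • G ^ 3 := by
    rw [hP, mat4_combFive hι, hx, hy', hz', hw']
  have hPc : ∀ j : ℕ, Commute P (G ^ j) := by
    intro j
    rw [hPe]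
    have : ∀ (a : F) (k : ℕ), Commute (a • G ^ k) (G ^ j) := fun a k =>
      ((Commute.refl G).pow_pow k j).smul_left a
    exact (((this _ _).add_left (this _ _)).add_left (this _ _)).add_left (this _ _)
  have hPV : ∀ i, (P * V) i 0 = (H * V) i 0 := by
    intro i
    have h1 : (P * V) i 0 = (B *ᵥ c) i := by
      rw [hPe]
      simp only [Matrix.add_mul, Matrix.smul_mul, Matrix.add_apply, Matrix.smul_apply, smul_eq_mul]
      have e0 : (G ^ 0 * V) i 0 = B i 0 := hBj i 0
      have e1 : (G ^ 1 * V) i 0 = B i 1 := hBj i 1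
      have e2 : (G ^ 2 * V) i 0 = B i 2 := hBj i 2
      have e3 : (G ^ 3 * V) i 0 = B i 3 := hBj i 3
      rw [e0, e1, e2, e3, Matrix.mulVec, dotProduct, Fin.sum_univ_four]
      ring
    rw [h1, hc, Matrix.mulVec_mulVec, hBB, Matrix.one_mulVec]
  have hHP : H = P := by
    have h1 : H * B = P * B := by
      ext i j
      have e : ∀ X : Matrix (Fin 4) (Fin 4) F, Commute X (G ^ (j : ℕ)) →
          (X * B) i j = ∑ k, (G ^ (j : ℕ)) i k * (X * V) k 0 := by
        intro X hX
        have : (X * B) i j = ((X * G ^ (j : ℕ)) * V) i 0 := by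
          rw [Matrix.mul_assoc]
          rw [Matrix.mul_apply, Matrix.mul_apply]
          exact Finset.sum_congr rfl fun k _ => by rw [hBj]
        rw [this, hX.eq, Matrix.mul_assoc, Matrix.mul_apply]
      rw [e H (Commute.pow_right hM _), e P (hPc _)]
      simp [hPV]
    have := congrArg (· * mat4 ι biFive) h1
    simpa only [Matrix.mul_assoc, hBB, Matrix.mul_one] using this
  have hok : colsOK (combFive x y z w) = true := by
    simp only [colsOK, List.all_eq_true, List.mem_range, beq_iff_eq]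
    intro a ha b hb
    refine val9_injOn hι (addF_lt _ _) (by split <;> norm_num) ?_
    have h1 := M.2 (Pi.single (⟨a, ha⟩ : Fin 4) 1) (Pi.single (⟨b, hb⟩ : Fin 4) 1)
    change Cfsg.hermForm 4 F 3 (H *ᵥ _) (H *ᵥ _) = _ at h1
    rw [show colHerm (combFive x y z w) a b
        = colHerm (combFive x y z w) ((⟨a, ha⟩ : Fin 4) : ℕ) ((⟨b, hb⟩ : Fin 4) : ℕ) from rfl,
      colHerm_eq hι, ← hP, ← hHP]
    simp only [Cfsg.hermForm, Matrix.mulVec_single, MulOpposite.op_one, one_smul, Matrix.col_apply] at h1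
    rw [h1]
    by_cases hab : a = b
    · subst hab; simp [Pi.single_apply, val9_one]
    · simp [Pi.single_apply, hab, Ne.symm hab, val9_zero]
  have htab := List.all_eq_true.1 (List.all_eq_true.1 (List.all_eq_true.1 (List.all_eq_true.1
    combFive_unitary x (List.mem_range.2 hx0)) y (List.mem_range.2 hy)) z (List.mem_range.2 hz)) w
    (List.mem_range.2 hw)
  have hdet : detFive (combFive x y z w) = 1 := by
    refine val9_injOn hι (addF_lt _ _) (by norm_num) ?_
    rw [val9_detFive hι, val9_one, ← hP, ← hHP]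
    exact (M : Matrix.SpecialLinearGroup (Fin 4) F).2
  simp only [hok, hdet, beq_self_eq_true, Bool.not_true, Bool.false_or, List.any_eq_true, List.mem_range,
    beq_iff_eq] at htab
  obtain ⟨k, -, m, -, he⟩ := htab
  refine ⟨k, val9 ι m, ?_⟩
  rw [hHP, hP, he, mat4_mul hι, mat4_pow hι, mat4_diag]
  congr 1
  ext i j
  fin_cases i <;> fin_cases j <;> simp

/-- The centraliser of a subgroup of order five is itself. -/
theorem centralizer_five_aux (X : Subgroup (Cfsg.PSU 4 F 3)) (hX : Nat.card X = 5) :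
    Subgroup.centralizer (X : Set (Cfsg.PSU 4 F 3)) = X := by
  classical
  haveI : Fact (Nat.Prime 5) := ⟨by norm_num⟩
  have hfg := facts_five
  simp only [Bool.and_eq_true, beq_iff_eq] at hfg
  obtain ⟨⟨⟨hgo, hg5⟩, -⟩, -⟩ := hfg
  obtain ⟨g, hg⟩ := exists_elt (n := 5) hι hF (by norm_num) hgo hg5
  let toM : Cfsg.SU 4 F 3 →* Matrix (Fin 4) (Fin 4) F :=
    (Cfsg.slToMat 4 F).comp (Cfsg.SU 4 F 3).subtype
  have toM_inj : Function.Injective toM := fun a b e =>
    Subtype.ext (Subtype.ext e)
  have hgM : toM g = mat4 ι gFive := hg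
  have g5 : g ^ 5 = 1 := toM_inj (by rw [map_pow, hgM, ← mat4_pow hι, hg5, mat4_one, map_one])
  have hz4 : ∀ z ∈ Subgroup.center (Cfsg.SU 4 F 3), z ^ 4 = 1 := by
    intro z hz
    have hc := CfsgLib.Forms4.card_center_SU (n := 4) (q := 3) (F := F) (by rw [hF]; norm_num)
      (by norm_num)
    have := pow_card_eq_one' (x := (⟨z, hz⟩ : Subgroup.center (Cfsg.SU 4 F 3)))
    rw [hc] at this
    exact congrArg Subtype.val this
  let q := QuotientGroup.mk' (Subgroup.center (Cfsg.SU 4 F 3))
  have lift : ∀ (a : Cfsg.SU 4 F 3) (i : ℕ), q a * q g * (q a)⁻¹ = q g ^ i → a * g = g ^ i * a := by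
    intro a i e
    rw [← map_inv, ← map_mul, ← map_mul, ← map_pow] at e
    set z := (g ^ i)⁻¹ * (a * g * a⁻¹) with hz
    have hzc : z ∈ Subgroup.center (Cfsg.SU 4 F 3) := QuotientGroup.eq.1 e.symm
    have e2 : a * g * a⁻¹ = g ^ i * z := by rw [hz]; group
    have h5 : z ^ 5 = 1 := by
      have h1 : (a * g * a⁻¹) ^ 5 = 1 := by rw [conj_pow, g5, mul_one, mul_inv_cancel]
      rw [e2, Commute.mul_pow (Subgroup.mem_center_iff.1 hzc (g ^ i)), ← pow_mul, mul_comm i, pow_mul, g5,
        one_pow, one_mul] at h1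
      exact h1
    have hz1 : z = 1 := by
      have := pow_gcd_eq_one.2 ⟨h5, hz4 z hzc⟩
      simpa using this
    rw [hz1, mul_one] at e2
    exact mul_inv_eq_iff_eq_mul.1 e2
  have hord : orderOf (q g) = 5 := by
    refine orderOf_eq_prime (by rw [← map_pow, g5, map_one]) fun h1 => ?_
    have hgc : g ∈ Subgroup.center (Cfsg.SU 4 F 3) := (QuotientGroup.eq_one_iff g).1 h1
    have h2 := pow_gcd_eq_one.2 ⟨g5, hz4 g hgc⟩
    simp only [show Nat.gcd 5 4 = 1 from rfl, pow_one] at h2
    have h3' : mat4 ι gFive = mat4 ι (diag4 1 1) := by rw [← hgM, h2, map_one, mat4_one]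
    have h00 := congrFun (congrFun h3' 0) 0
    have h00' := val9_injOn hι (by decide) (by decide) h00
    revert h00'
    decide
  set X₀ := Subgroup.zpowers (q g) with hX₀
  have hX₀c : Nat.card X₀ = 5 := by rw [hX₀, Nat.card_zpowers, hord]
  have hcard := card_eq hι hF
  have hfac : (Nat.card (Cfsg.PSU 4 F 3)).factorization 5 = 1 := by
    have hne : Nat.card (Cfsg.PSU 4 F 3) ≠ 0 := Nat.card_pos.ne'
    have h5 := (Nat.Prime.pow_dvd_iff_le_factorization (k := 1) (by norm_num : Nat.Prime 5) hne).1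
      (by rw [hcard]; norm_num)
    have h25 : ¬ 2 ≤ (Nat.card (Cfsg.PSU 4 F 3)).factorization 5 := fun h2 => by
      have := (Nat.Prime.pow_dvd_iff_le_factorization (k := 2) (by norm_num : Nat.Prime 5) hne).2 h2
      rw [hcard] at this
      norm_num at this
    omega
  obtain ⟨t, ht⟩ := MulAction.exists_smul_eq (Cfsg.PSU 4 F 3)
    (Sylow.ofCard X₀ (by rw [hX₀c, hfac, pow_one])) (Sylow.ofCard X (by rw [hX, hfac, pow_one]))
  have hXt : X = X₀.map (MulAut.conj t).toMonoidHom := by
    have := congrArg Sylow.toSubgroup ht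
    exact this.symm
  -- centralising the base element
  have hcent : ∀ x, Commute x (q g) → x ∈ X₀ := by
    intro x hx
    obtain ⟨a, rfl⟩ := QuotientGroup.mk'_surjective _ x
    have e := lift a 1 (by rw [pow_one]; exact mul_inv_eq_iff_eq_mul.2 hx.eq)
    rw [pow_one] at e
    have e2 := congrArg toM e
    rw [map_mul, map_mul, hgM] at e2
    obtain ⟨k, μ, hk⟩ := commutant_five hι hF a e2
    have hzc : (g ^ k)⁻¹ * a ∈ Subgroup.center (Cfsg.SU 4 F 3) := by
      have e3 : toM ((g ^ k)⁻¹ * a) = μ • 1 := by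
        have h1 : toM a = toM (g ^ k) * (μ • 1) := by rw [map_pow, hgM]; exact hk
        rw [map_mul, h1, ← Matrix.mul_assoc, ← map_mul, inv_mul_cancel, map_one, Matrix.one_mul]
      rw [Subgroup.mem_center_iff]
      intro b
      refine toM_inj ?_
      rw [map_mul toM b, map_mul toM _ b, e3, Matrix.mul_smul, Matrix.smul_mul, Matrix.mul_one,
        Matrix.one_mul]
    have : q a = q g ^ k := by
      rw [← map_pow]
      exact (QuotientGroup.eq.2 hzc).symm
    rw [show QuotientGroup.mk' (Subgroup.center (Cfsg.SU 4 F 3)) a = q a from rfl, this]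
    exact pow_mem (Subgroup.mem_zpowers _) k
  have hC0 : Subgroup.centralizer (X₀ : Set (Cfsg.PSU 4 F 3)) = X₀ := by
    refine le_antisymm (fun x hx => hcent x ?_) ?_
    · exact (Subgroup.mem_centralizer_iff.1 hx _ (Subgroup.mem_zpowers _)).symm
    · intro x hx
      rw [Subgroup.mem_centralizer_iff]
      rintro y ⟨i, rfl⟩
      obtain ⟨j, rfl⟩ := hx
      exact ((Commute.refl (q g)).zpow_zpow i j).eq
  rw [hXt]
  ext x
  rw [Subgroup.mem_map_equiv]
  nth_rewrite 2 [← hC0]
  simp only [Subgroup.mem_centralizer_iff, SetLike.mem_coe]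
  constructor
  · intro hx y hy
    have h1 := hx (MulAut.conj t y) (Subgroup.mem_map_equiv.2 (by rwa [MulEquiv.symm_apply_apply]))
    have h2 := congrArg (MulAut.conj t).symm h1
    rwa [map_mul, map_mul, MulEquiv.symm_apply_apply] at h2
  · intro hx y hy
    have h2 := congrArg (MulAut.conj t) (hx _ (Subgroup.mem_map_equiv.1 hy))
    rwa [map_mul, map_mul, MulEquiv.apply_symm_apply, MulEquiv.apply_symm_apply] at h2

end CfsgLib.UFourThree

namespace CfsgLib.UFourThree

/-- The centraliser of a subgroup of order five of `PSU(4,3)` is itself. -/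
theorem centralizer_five (K : Type) [Field K] [Fintype K] (hK : Fintype.card K = 9)
    (X : Subgroup (Cfsg.PSU 4 K 3)) (hX : Nat.card X = 5) :
    Subgroup.centralizer (X : Set (Cfsg.PSU 4 K 3)) = X := by
  haveI : CharP K 3 := charP_of_card_eq_prime_pow (f := 2) (p := 3) (by rw [hK]; norm_num)
  obtain ⟨ι, hι⟩ := CfsgLib.UThree.exists_iota hK
  exact centralizer_five_aux hι hK X hX

end CfsgLib.UFourThree
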