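import Cfsg.Agent.UThree.NineField

/-!
# An element of order seven of the unitary group of degree four over nine elements, on codes

The element, an element of order three normalising it, and the list of the unitary polynomials in it.
-/

set_option autoImplicit false

namespace CfsgLib.UFourThree

open CfsgLib.UThree

/-- Entry of a coded matrix. -/
def get4 (A : List (List ℕ)) (i j : ℕ) : ℕ := (A.getD i []).getD j 0

/-- Tabulation. -/
def tab4 (f : ℕ → ℕ → ℕ) : List (List ℕ) := (List.range 4).map fun i => (List.range 4).map (f i)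

/-- Product. -/
def mul4 (A B : List (List ℕ)) : List (List ℕ) := tab4 fun i j =>
  addF (addF (mulF (get4 A i 0) (get4 B 0 j)) (mulF (get4 A i 1) (get4 B 1 j)))
    (addF (mulF (get4 A i 2) (get4 B 2 j)) (mulF (get4 A i 3) (get4 B 3 j)))

/-- Diagonal matrix. -/
def diag4 (a b : ℕ) : List (List ℕ) := [[a, 0, 0, 0], [0, a, 0, 0], [0, 0, a, 0], [0, 0, 0, b]]

/-- Powers. -/
def pow4 (A : List (List ℕ)) : ℕ → List (List ℕ)
  | 0 => diag4 1 1
  | k + 1 => mul4 (pow4 A k) A

/-- The element of order seven. -/
def gCode : List (List ℕ) := [[0, 5, 7, 0], [1, 0, 0, 0], [0, 4, 4, 0], [0, 0, 0, 1]]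

/-- An element of order three mapping it to its square. -/
def hCode : List (List ℕ) := [[2, 3, 7, 0], [5, 8, 0, 0], [2, 3, 5, 0], [0, 0, 0, 1]]

/-- A cyclic vector, as a first column. -/
def vCode : List (List ℕ) := [[1, 0, 0, 0], [0, 0, 0, 0], [0, 0, 0, 0], [1, 0, 0, 0]]

/-- The images of the cyclic vector. -/
def bCode : List (List ℕ) := [[1, 0, 5, 2], [0, 1, 0, 5], [0, 0, 4, 6], [1, 1, 1, 1]]

/-- The inverse of `bCode`. -/
def biCode : List (List ℕ) := [[7, 6, 0, 3], [4, 5, 8, 8], [7, 7, 7, 5], [3, 3, 6, 6]]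

/-- A polynomial in `gCode`. -/
def comb4 (a b c d : ℕ) : List (List ℕ) := tab4 fun i j =>
  addF (addF (mulF a (get4 (pow4 gCode 0) i j)) (mulF b (get4 (pow4 gCode 1) i j)))
    (addF (mulF c (get4 (pow4 gCode 2) i j)) (mulF d (get4 (pow4 gCode 3) i j)))

/-- Hermitian product of two columns. -/
def colHerm (A : List (List ℕ)) (a b : ℕ) : ℕ :=
  addF (addF (mulF (get4 A 0 a) (conjF (get4 A 0 b))) (mulF (get4 A 1 a) (conjF (get4 A 1 b))))
    (addF (mulF (get4 A 2 a) (conjF (get4 A 2 b))) (mulF (get4 A 3 a) (conjF (get4 A 3 b))))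

/-- The columns are orthonormal. -/
def colsOK (A : List (List ℕ)) : Bool :=
  (List.range 4).all fun a => (List.range 4).all fun b => colHerm A a b == if a = b then 1 else 0

/-- Trace. -/
def tr4 (A : List (List ℕ)) : ℕ :=
  addF (addF (get4 A 0 0) (get4 A 1 1)) (addF (get4 A 2 2) (get4 A 3 3))

set_option maxRecDepth 100000 in
theorem comb4_unitary : ((List.range 9).all fun a => (List.range 9).all fun b =>
    (List.range 9).all fun c => (List.range 9).all fun d =>
      let A := comb4 a b c d
      !colsOK A || (List.range 7).any fun k => [1, 2, 3, 6].any fun m => [1, 2, 3, 6].any fun l =>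
        A == mul4 (pow4 gCode k) (diag4 m l)) = true := by
  decide +kernel

theorem facts_g : (colsOK gCode && pow4 gCode 7 == diag4 1 1 && !(gCode == diag4 1 1) &&
    colsOK hCode && pow4 hCode 3 == diag4 1 1 && mul4 hCode gCode == mul4 (pow4 gCode 2) hCode) = true := by
  decide +kernel

theorem facts_basis : (mul4 bCode biCode == diag4 1 1 && (List.range 4).all fun j =>
    (List.range 4).all fun i => get4 (mul4 (pow4 gCode j) vCode) i 0 == get4 bCode i j) = true := by
  decide +kernel

theorem facts_trace : ([3, 5, 6].all fun k => !(tr4 (pow4 gCode k) == tr4 gCode)) = true := by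
  decide +kernel

end CfsgLib.UFourThree
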